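import Groth.Prelude.Def_EtCore
import Groth.Prelude.Def_EtBase

/-! pullback of global sections and coherence of `pullConst` -/

universe u

open CategoryTheory CategoryTheory.Limits AlgebraicGeometry Opposite

namespace Groth.Agent.EtMVLib

set_option backward.isDefEq.respectTransparency.types false

variable {X Y Z : Scheme.{u}}

/-- pullback of global sections -/
noncomputable def pullSec (f : X ⟶ Y) : EtCore.gsec Y ⟶ EtCoh.pull f ⋙ EtCore.gsec X :=
  Functor.whiskerRight (EtCoh.pullPushAdj f).unit (EtCore.gsec Y) ≫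
    Functor.whiskerLeft (EtCoh.pull f) (EtCore.pushGsecIso f).hom

theorem pullSec_app (f : X ⟶ Y) (G : EtCoh.Ab Y) :
    (pullSec f).app G = (EtCore.gsec Y).map ((EtCoh.pullPushAdj f).unit.app G) ≫
      (EtCore.pushGsecIso f).hom.app ((EtCoh.pull f).obj G) := rfl

theorem pushGsec_comp (k : X ⟶ Y) (t : Y ⟶ Z) (K : EtCoh.Ab X) :
    (EtCore.gsec Z).map ((EtCoh.pushComp t k).hom.app K) ≫ (EtCore.pushGsecIso (k ≫ t)).hom.app K =
      (EtCore.pushGsecIso t).hom.app ((EtCoh.push k).obj K) ≫ (EtCore.pushGsecIso k).hom.app K := by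
  change K.obj.map (Quiver.Hom.op _) ≫ K.obj.map (Quiver.Hom.op _) =
    K.obj.map (Quiver.Hom.op _) ≫ K.obj.map (Quiver.Hom.op _)
  rw [← K.obj.map_comp, ← K.obj.map_comp, ← op_comp, ← op_comp]
  refine congrArg (fun m => K.obj.map (Quiver.Hom.op m)) ?_
  have hT : IsTerminal ((EtCoh.bc k).obj ((EtCoh.bc t).obj (EtCoh.top Z))) :=
    IsTerminal.isTerminalObj (EtCoh.bc k) _ (EtCore.bcTopIsTerminal t)
  exact hT.hom_ext _ _

theorem pullSec_comp (k : X ⟶ Y) (t : Y ⟶ Z) (G : EtCoh.Ab Z) :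
    (pullSec (k ≫ t)).app G ≫ (EtCore.gsec X).map ((EtCore.pullComp k t).hom.app G) =
      (pullSec t).app G ≫ (pullSec k).app ((EtCoh.pull t).obj G) := by
  have h : (EtCoh.pullPushAdj (k ≫ t)).unit.app G ≫
      (EtCoh.push (k ≫ t)).map ((EtCore.pullComp k t).hom.app G) =
    ((EtCoh.pullPushAdj t).unit.app G ≫ (EtCoh.push t).map ((EtCoh.pullPushAdj k).unit.app _)) ≫
      (EtCoh.pushComp t k).hom.app _ := by
    refine (Adjunction.unit_leftAdjointUniq_hom_app (EtCoh.pullPushAdj (k ≫ t))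
      (((EtCoh.pullPushAdj t).comp (EtCoh.pullPushAdj k)).ofNatIsoRight (EtCoh.pushComp t k)) G).trans ?_
    rw [Adjunction.ofNatIsoRight_unit]
    simp
  rw [pullSec_app, pullSec_app, pullSec_app, Category.assoc]
  have n1 := (EtCore.pushGsecIso (k ≫ t)).hom.naturality ((EtCore.pullComp k t).hom.app G)
  have n2 := (EtCore.pushGsecIso t).hom.naturality ((EtCoh.pullPushAdj k).unit.app ((EtCoh.pull t).obj G))
  simp only [Functor.comp_map] at n1 n2
  rw [← n1, ← Category.assoc, ← Functor.map_comp, h, Functor.map_comp, Functor.map_comp]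
  simp only [Category.assoc]
  erw [pushGsec_comp]
  simp only [← Category.assoc]
  congr 1
  simp only [Category.assoc]
  exact congrArg _ n2

theorem homEquiv_pullConst_inv (f : X ⟶ Y) (M : Type) [AddCommGroup M] :
    (EtCore.constAdj X).homEquiv _ _ (EtCore.pullConst f M).inv =
      (EtCore.constAdj Y).unit.app (AddCommGrpCat.of (ULift.{u+1} M)) ≫ (pullSec f).app _ := by
  have h := Adjunction.unit_leftAdjointUniq_hom_app
    (((EtCore.constAdj Y).comp (EtCoh.pullPushAdj f)).ofNatIsoRight (EtCore.pushGsecIso f))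
    (EtCore.constAdj X) (AddCommGrpCat.of (ULift.{u+1} M))
  rw [Adjunction.homEquiv_unit, ← h, Category.assoc, ← Functor.map_comp]
  refine (congrArg (fun m => _ ≫ (EtCore.gsec X).map m)
    (EtCore.pullConst f M).hom_inv_id).trans ?_
  rw [CategoryTheory.Functor.map_id, Category.comp_id]
  rw [Adjunction.ofNatIsoRight_unit, pullSec_app]
  simp

end Groth.Agent.EtMVLib
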