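import Groth.Agent.EtMVLib.Abstract
import Groth.Agent.EtMVLib.PullSec
import Groth.Agent.EtFound.AbRecollement
import Groth.Agent.EtFound.PullStalk
import Mathlib.CategoryTheory.MorphismProperty.OverAdjunction

/-! the Mayer-Vietoris short exact sequence of extended constant sheaves -/

universe u

open CategoryTheory CategoryTheory.Limits AlgebraicGeometry Opposite CategoryTheory.Abelian

namespace Groth.Agent.EtMVLib

set_option backward.isDefEq.respectTransparency.types false

variable {U X : Scheme.{u}} (j : U ⟶ X) [IsOpenImmersion j]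

noncomputable def restrIsoPull : EtShriek.restrAlong j ≅ EtCoh.pull j :=
  let a : EtShriek.compEtale j ⊣ EtCoh.bc j :=
    MorphismProperty.Over.mapPullbackAdj EtCoh.etaleMP ⊤ j
      (inferInstanceAs (AlgebraicGeometry.Etale j)) trivial
  Adjunction.leftAdjointUniq
    (a.sheafPushforwardContinuous
      (E := AddCommGrpCat.{u + 1}) U.smallEtaleTopology X.smallEtaleTopology)
    (EtCoh.pullPushAdj j)

/-- `j_! ⊣ j^{-1}` -/
noncomputable def shriekAdj : EtShriek.extZero j ⊣ EtCoh.pull j :=
  (EtShriek.extZeroAdj j).ofNatIsoRight (restrIsoPull j)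

/-- `j_! ℤ` -/
noncomputable abbrev shriekZ : EtCoh.Ab X := (EtShriek.extZero j).obj (EtCoh.const U ℤ)

/-- `j_! ℤ ⟶ ℤ` -/
noncomputable def shriekZTo : shriekZ j ⟶ EtCoh.const X ℤ :=
  ((shriekAdj j).homEquiv _ _).symm (EtCore.pullConst j ℤ).inv

theorem preservesMono_extZero : (EtShriek.extZero j).PreservesMonomorphisms := by
  have := EtFound.extZero_preservesFiniteLimits j
  infer_instance

variable {W : Scheme.{u}} (w : W ⟶ X) [IsOpenImmersion w] (k : W ⟶ U) (e : k ≫ j = w)

/-- composition isomorphism -/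
noncomputable abbrev θ : EtCoh.pull j ⋙ EtCoh.pull k ≅ EtCoh.pull w :=
  (EtCore.pullComp k j).symm ≪≫ EtCore.pullCongr e

omit [IsOpenImmersion j] [IsOpenImmersion w] in
theorem pullSec_θ (G : EtCoh.Ab X) :
    (pullSec j).app G ≫ (pullSec k).app ((EtCoh.pull j).obj G) ≫
      (EtCore.gsec W).map ((θ j w k e).hom.app G) = (pullSec w).app G := by
  subst e
  refine ((Category.assoc _ _ _).symm.trans
    (congrArg (· ≫ _) (pullSec_comp k j G).symm)).trans ((Category.assoc _ _ _).trans ?_)
  have : (EtCore.pullComp k j).hom.app G ≫ (θ j (k ≫ j) k rfl).hom.app G = 𝟙 _ := by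
    simp [θ, EtCore.pullCongr]
  refine (congrArg (fun m => _ ≫ m) ((Functor.map_comp _ _ _).symm.trans
    (congrArg (EtCore.gsec W).map this))).trans ?_
  simp

omit [IsOpenImmersion j] [IsOpenImmersion w] in
theorem pullConst_comp :
    (EtCore.pullConst k ℤ).inv ≫ (EtCoh.pull k).map (EtCore.pullConst j ℤ).inv ≫
      (θ j w k e).hom.app (EtCoh.const X ℤ) = (EtCore.pullConst w ℤ).inv := by
  apply ((EtCore.constAdj W).homEquiv _ _).injective
  have n1 := (pullSec k).naturality (EtCore.pullConst j ℤ).inv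
  have hU : (EtCore.constAdj U).unit.app (AddCommGrpCat.of (ULift.{u + 1} ℤ)) ≫
      (EtCore.gsec U).map (EtCore.pullConst j ℤ).inv = _ :=
    ((EtCore.constAdj U).homEquiv_unit _ _ (EtCore.pullConst j ℤ).inv).symm.trans
      (homEquiv_pullConst_inv j ℤ)
  set c := (EtCore.pullConst j ℤ).inv
  set t := (θ j w k e).hom.app (EtCoh.const X ℤ)
  refine ((EtCore.constAdj W).homEquiv_naturality_right _ _).trans ?_
  refine (eq_whisker (homEquiv_pullConst_inv k ℤ) _).trans ?_
  refine (whisker_eq _ (Functor.map_comp (EtCore.gsec W) _ _)).trans ?_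
  refine ((Category.assoc _ _ _).trans (whisker_eq _
    ((Category.assoc _ _ _).symm.trans (eq_whisker n1.symm _)))).trans ?_
  refine ((whisker_eq _ (Category.assoc _ _ _)).trans
    ((Category.assoc _ _ _).symm.trans (eq_whisker hU _))).trans ?_
  refine ((Category.assoc _ _ _).trans (whisker_eq _ (pullSec_θ j w k e _))).trans ?_
  exact (homEquiv_pullConst_inv w ℤ).symm

/-- the restriction map between extended constant sheaves -/
noncomputable abbrev shriekZMap : shriekZ w ⟶ shriekZ j :=
  transMap (EtCoh.pull j) (shriekAdj j) (EtCoh.pull w) (EtCoh.pull k) (EtCore.pullConst k ℤ).inv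
    (θ j w k e) (shriekAdj w)

theorem shriekZMap_comp : shriekZMap j w k e ≫ shriekZTo j = shriekZTo w :=
  transMap_comp _ _ _ _ _ _ _ _ _ (pullConst_comp j w k e)

end Groth.Agent.EtMVLib
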