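import Groth.Prelude.Def_EtCore

/-! unfolding lemmas for the pullback maps on cohomology -/

universe u

open CategoryTheory CategoryTheory.Limits AlgebraicGeometry Opposite CategoryTheory.Abelian

namespace Groth.Agent.EtMVLib

set_option backward.isDefEq.respectTransparency.types false

theorem Hpull_apply {X Y : Scheme.{u}} (f : X ⟶ Y) [PreservesFiniteLimits (EtCoh.pull f)] (G : EtCoh.Ab Y)
    (n : ℕ) (ξ : EtCoh.H Y G n) :
    EtCore.Hpull f G n ξ =
      (Ext.mk₀ (EtCore.pullConst f ℤ).inv).comp (ξ.mapExactFunctor (EtCoh.pull f)) (zero_add n) := rfl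

theorem HpullVia_apply {X Y Z : Scheme.{u}} (f : X ⟶ Y) (t : Y ⟶ Z) (f₀ : X ⟶ Z) (w : f ≫ t = f₀)
    [PreservesFiniteLimits (EtCoh.pull f)] (G : EtCoh.Ab Z) (p : ℕ)
    (β : EtCoh.H Y ((EtCoh.pull t).obj G) p) :
    EtCore.HpullVia f t f₀ w G p β =
      ((Ext.mk₀ (EtCore.pullConst f ℤ).inv).comp (β.mapExactFunctor (EtCoh.pull f)) (zero_add p)).comp
        (Ext.mk₀ (((EtCore.pullComp f t).symm ≪≫ EtCore.pullCongr w).hom.app G)) (add_zero p) := rfl

end Groth.Agent.EtMVLib
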