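import Mathlib.Algebra.Homology.DerivedCategory.Ext.Map
import Mathlib.Algebra.Homology.DerivedCategory.Ext.EnoughInjectives
import Mathlib.CategoryTheory.Adjunction.Additive

/-! maps of Ext groups under natural transformations, composites and adjunctions -/

universe w v u

open CategoryTheory CategoryTheory.Limits CategoryTheory.Abelian

namespace Groth.Agent.EtMVLib

variable {C : Type u} [Category.{v} C] [Abelian C] [HasExt.{w} C] [EnoughInjectives C]

/-- an injective embedding short exact sequence -/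
noncomputable abbrev injSES (B : C) : ShortComplex C :=
  ShortComplex.mk (Injective.ι B) (cokernel.π (Injective.ι B)) (cokernel.condition _)

theorem injSES_shortExact (B : C) : (injSES B).ShortExact :=
  { exact := ShortComplex.exact_of_g_is_cokernel _ (cokernelIsCokernel (Injective.ι B)) }

theorem exists_eq_comp_extClass {A B : C} {n : ℕ} (α : Ext A B (n + 1)) :
    ∃ β : Ext A (injSES B).X₃ n, β.comp (injSES_shortExact B).extClass rfl = α :=
  Ext.covariant_sequence_exact₁ A (injSES_shortExact B) α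
    (have : Injective (injSES B).X₂ := inferInstanceAs (Injective (Injective.under B))
     Ext.eq_zero_of_injective _) rfl

theorem ext_induction {P : ∀ (A B : C) (n : ℕ), Ext A B n → Prop}
    (h0 : ∀ A B (f : A ⟶ B), P A B 0 (Ext.mk₀ f))
    (hs : ∀ A {n : ℕ} {S : ShortComplex C} (hS : S.ShortExact) (β : Ext A S.X₃ n),
      P A S.X₃ n β → P A S.X₁ (n + 1) (β.comp hS.extClass rfl))
    {A B : C} {n : ℕ} (α : Ext A B n) : P A B n α := by
  induction n generalizing B with
  | zero =>
    obtain ⟨f, rfl⟩ := (Ext.mk₀_bijective A B).2 α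
    exact h0 A B f
  | succ n ih =>
    obtain ⟨β, rfl⟩ := exists_eq_comp_extClass α
    exact hs A (injSES_shortExact B) β (ih β)

variable {D : Type*} [Category* D] [Abelian D] [HasExt.{w} D]

omit [EnoughInjectives C] in
theorem comp_square {a a' x₃ x₃' x₁ x₁' : C} {n : ℕ} {x : Ext a x₃ n} {y : Ext a' x₃' n}
    {c : Ext x₃ x₁ 1} {c' : Ext x₃' x₁' 1} {mA : a ⟶ a'} {m₃ : x₃ ⟶ x₃'} {m₁ : x₁ ⟶ x₁'}
    (h : x.comp (Ext.mk₀ m₃) (add_zero n) = (Ext.mk₀ mA).comp y (zero_add n))
    (hc : c.comp (Ext.mk₀ m₁) (add_zero 1) = (Ext.mk₀ m₃).comp c' (zero_add 1)) :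
    (x.comp c (rfl : n + 1 = n + 1)).comp (Ext.mk₀ m₁) (add_zero (n + 1)) =
      (Ext.mk₀ mA).comp (y.comp c' rfl) (zero_add (n + 1)) := by
  rw [Ext.comp_assoc_of_third_deg_zero, hc, ← Ext.comp_assoc_of_second_deg_zero, h]
  exact Ext.comp_assoc _ _ _ (zero_add n) rfl (by lia)

/-- naturality of the action of exact functors on Ext -/
theorem mapExactFunctor_natTrans (F G : C ⥤ D) [F.Additive] [PreservesFiniteLimits F]
    [PreservesFiniteColimits F] [G.Additive] [PreservesFiniteLimits G] [PreservesFiniteColimits G]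
    (e : F ⟶ G) {A B : C} {n : ℕ} (α : Ext A B n) :
    (α.mapExactFunctor F).comp (Ext.mk₀ (e.app B)) (add_zero n) =
      (Ext.mk₀ (e.app A)).comp (α.mapExactFunctor G) (zero_add n) := by
  induction α using ext_induction with
  | h0 A B f =>
    rw [Ext.mapExactFunctor_mk₀, Ext.mapExactFunctor_mk₀, Ext.mk₀_comp_mk₀, Ext.mk₀_comp_mk₀,
      e.naturality]
  | hs A hS β ih =>
    rename_i n S
    rw [Ext.mapExactFunctor_comp, Ext.mapExactFunctor_comp, Ext.mapExactFunctor_extClass,
      Ext.mapExactFunctor_extClass]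
    exact comp_square ih (ShortComplex.ShortExact.extClass_naturality (hS.map_of_exact F)
      (hS.map_of_exact G) (S.mapNatTrans e))

variable {E : Type*} [Category* E] [Abelian E] [HasExt.{w} E]

theorem mapExactFunctor_functorComp (F : C ⥤ D) (G : D ⥤ E) [F.Additive] [PreservesFiniteLimits F]
    [PreservesFiniteColimits F] [G.Additive] [PreservesFiniteLimits G] [PreservesFiniteColimits G]
    [PreservesFiniteLimits (F ⋙ G)] [PreservesFiniteColimits (F ⋙ G)]
    {A B : C} {n : ℕ} (α : Ext A B n) :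
    α.mapExactFunctor (F ⋙ G) = (α.mapExactFunctor F).mapExactFunctor G := by
  induction α using ext_induction with
  | h0 A B f =>
    rw [Ext.mapExactFunctor_mk₀, Ext.mapExactFunctor_mk₀, Ext.mapExactFunctor_mk₀]
    rfl
  | hs A hS β ih =>
    rename_i n S
    rw [Ext.mapExactFunctor_comp, Ext.mapExactFunctor_comp, Ext.mapExactFunctor_comp,
      Ext.mapExactFunctor_extClass, Ext.mapExactFunctor_extClass, ih]
    congr 1
    exact (Ext.mapExactFunctor_extClass G (hS.map_of_exact F)).symm

section Adjunction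

variable {L : D ⥤ C} {R : C ⥤ D} (adj : L ⊣ R) [R.Additive] [PreservesFiniteLimits R]
  [PreservesFiniteColimits R]

/-- the comparison `Ext(L A, B) → Ext(A, R B)` -/
noncomputable def adjExtMap (A : D) (B : C) (n : ℕ) : Ext (L.obj A) B n →+ Ext A (R.obj B) n :=
  AddMonoidHom.mk' (fun α => (Ext.mk₀ (adj.unit.app A)).comp (α.mapExactFunctor R) (zero_add n))
    fun a b => by rw [Ext.mapExactFunctor_add, Ext.comp_add]

theorem adjExtMap_comp {A : D} {B B' : C} {a b c : ℕ} (α : Ext (L.obj A) B a) (β : Ext B B' b)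
    (h : a + b = c) :
    adjExtMap adj A B' c (α.comp β h) = (adjExtMap adj A B a α).comp (β.mapExactFunctor R) h := by
  change (Ext.mk₀ _).comp ((α.comp β h).mapExactFunctor R) (zero_add c) = _
  rw [Ext.mapExactFunctor_comp]
  exact (Ext.comp_assoc _ _ _ (zero_add a) h (by lia)).symm

theorem adjExtMap_mk₀ {A : D} {B : C} (f : L.obj A ⟶ B) :
    adjExtMap adj A B 0 (Ext.mk₀ f) = Ext.mk₀ (adj.homEquiv _ _ f) := by
  change (Ext.mk₀ _).comp ((Ext.mk₀ f).mapExactFunctor R) (zero_add 0) = _
  rw [Ext.mapExactFunctor_mk₀, Ext.mk₀_comp_mk₀, Adjunction.homEquiv_unit]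

/-- for exact adjoint functors `Ext(L A, B) ≅ Ext(A, R B)` -/
theorem adjExtMap_bijective [L.PreservesMonomorphisms] (A : D) (B : C) (n : ℕ) :
    Function.Bijective (adjExtMap adj A B n) := by
  induction n generalizing B with
  | zero =>
    refine ⟨fun x y hxy => ?_, fun y => ?_⟩
    · obtain ⟨f, rfl⟩ := (Ext.mk₀_bijective _ _).2 x
      obtain ⟨g, rfl⟩ := (Ext.mk₀_bijective _ _).2 y
      rw [adjExtMap_mk₀, adjExtMap_mk₀] at hxy
      rw [(adj.homEquiv _ _).injective ((Ext.mk₀_bijective _ _).1 hxy)]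
    · obtain ⟨g, rfl⟩ := (Ext.mk₀_bijective _ _).2 y
      exact ⟨Ext.mk₀ ((adj.homEquiv _ _).symm g), by rw [adjExtMap_mk₀, Equiv.apply_symm_apply]⟩
  | succ n ih =>
    let hS := injSES_shortExact B
    have : Injective (injSES B).X₂ := inferInstanceAs (Injective (Injective.under B))
    have : Injective ((injSES B).map R).X₂ :=
      adj.map_injective _ (inferInstanceAs (Injective (injSES B).X₂))
    refine ⟨(injective_iff_map_eq_zero _).2 fun α hα => ?_, fun β => ?_⟩
    · obtain ⟨α', rfl⟩ := exists_eq_comp_extClass α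
      rw [adjExtMap_comp, Ext.mapExactFunctor_extClass] at hα
      obtain ⟨γ, hγ⟩ := Ext.covariant_sequence_exact₃ _ (hS.map_of_exact R) _ rfl hα
      obtain ⟨γ', rfl⟩ := (ih _).2 γ
      have : γ'.comp (Ext.mk₀ (injSES B).g) (add_zero n) = α' := (ih _).1 (by
        rw [adjExtMap_comp, Ext.mapExactFunctor_mk₀]
        exact hγ)
      rw [← this, Ext.comp_assoc_of_second_deg_zero, hS.comp_extClass]
      exact Ext.comp_zero _ _ _ _ rfl
    · obtain ⟨β', hβ⟩ := Ext.covariant_sequence_exact₁ A (hS.map_of_exact R) β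
        (Ext.eq_zero_of_injective _) rfl
      obtain ⟨α', rfl⟩ := (ih _).2 β'
      refine ⟨α'.comp hS.extClass rfl, ?_⟩
      rw [adjExtMap_comp, Ext.mapExactFunctor_extClass]
      exact hβ

end Adjunction

end Groth.Agent.EtMVLib
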