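import Groth.Agent.EtMVLib.ExtTools
import Mathlib.CategoryTheory.Adjunction.Unique

/-! the abstract form of the comparison of pullbacks around a commutative square -/

set_option autoImplicit false

universe w

open CategoryTheory CategoryTheory.Limits CategoryTheory.Abelian

namespace Groth.Agent.EtMVLib.SquareGen

variable {S A B D K : Type*} [Category* S] [Category* A] [Category* B] [Category* D] [Category* K]
variable {Pf : S ⥤ A} {Rf : A ⥤ S} (af : Pf ⊣ Rf) {Pg : S ⥤ B} {Rg : B ⥤ S} (ag : Pg ⊣ Rg)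
  {Pf' : B ⥤ D} {Rf' : D ⥤ B} (af' : Pf' ⊣ Rf') {Pg' : A ⥤ D} {Rg' : D ⥤ A} (ag' : Pg' ⊣ Rg')

/-- composition of pullbacks, from composition of direct images -/
noncomputable abbrev pcomp {P : S ⥤ D} {R : D ⥤ S} (a : P ⊣ R) (c : Rg' ⋙ Rf ≅ R) : P ≅ Pf ⋙ Pg' :=
  Adjunction.leftAdjointUniq a ((af.comp ag').ofNatIsoRight c)

theorem unit_pcomp {P : S ⥤ D} {R : D ⥤ S} (a : P ⊣ R) (c : Rg' ⋙ Rf ≅ R) (G : S) :
    a.unit.app G ≫ R.map ((pcomp af ag' a c).hom.app G) =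
      (af.unit.app G ≫ Rf.map (ag'.unit.app (Pf.obj G))) ≫ c.hom.app _ := by
  refine (Adjunction.unit_leftAdjointUniq_hom_app a ((af.comp ag').ofNatIsoRight c) G).trans ?_
  rw [Adjunction.ofNatIsoRight_unit]
  simp

theorem homEquiv_pcomp {P : S ⥤ D} {R : D ⥤ S} (a : P ⊣ R) (c : Rg' ⋙ Rf ≅ R) {G : S} {M : D}
    (m : Pg'.obj (Pf.obj G) ⟶ M) :
    a.homEquiv _ _ ((pcomp af ag' a c).hom.app G ≫ m) =
      af.homEquiv _ _ (ag'.homEquiv _ _ m) ≫ c.hom.app M := by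
  have n := c.hom.naturality m
  simp only [Functor.comp_map] at n
  simp only [Adjunction.homEquiv_unit, Functor.map_comp, Category.assoc]
  rw [reassoc_of% (unit_pcomp af ag' a c G)]
  exact congrArg (fun z => af.unit.app G ≫ Rf.map (ag'.unit.app (Pf.obj G)) ≫ z) n.symm

variable {P₁ P₂ : S ⥤ D} {R₁ R₂ : D ⥤ S} (a₁ : P₁ ⊣ R₁) (a₂ : P₂ ⊣ R₂) (c₁ : Rg' ⋙ Rf ≅ R₁)
  (c₂ : Rf' ⋙ Rg ≅ R₂) (e : R₁ ≅ R₂) (pc : P₁ ≅ P₂)

/-- the comparison around the square -/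
noncomputable abbrev sq : Pf ⋙ Pg' ≅ Pg ⋙ Pf' :=
  (pcomp af ag' a₁ c₁).symm ≪≫ pc ≪≫ pcomp ag af' a₂ c₂

theorem sq_counit (hpc : ∀ {G : S} {M : D} (k : P₂.obj G ⟶ M),
      a₁.homEquiv _ _ (pc.hom.app G ≫ k) = a₂.homEquiv _ _ k ≫ e.inv.app M) (F : A) :
    (sq af ag af' ag' a₁ a₂ c₁ c₂ pc).hom.app (Rf.obj F) ≫
        Pf'.map ((ag.homEquiv _ _).symm (Rf.map (ag'.unit.app F) ≫ c₁.hom.app _ ≫ e.hom.app _ ≫ c₂.inv.app _)) ≫
          af'.counit.app (Pg'.obj F) =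
      Pg'.map (af.counit.app F) := by
  simp only [sq, Iso.trans_hom, Iso.symm_hom, NatTrans.comp_app, Category.assoc]
  refine (Iso.inv_comp_eq ((pcomp af ag' a₁ c₁).app _)).2 ?_
  refine (a₁.homEquiv _ _).injective ?_
  refine ((hpc _).trans (congrArg (· ≫ e.inv.app _) (homEquiv_pcomp ag af' a₂ c₂ _))).trans ?_
  refine Eq.trans ?_ (homEquiv_pcomp af ag' a₁ c₁ _).symm
  erw [← Adjunction.homEquiv_counit, Equiv.apply_symm_apply, Equiv.apply_symm_apply]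
  have e2 : af.homEquiv _ _ (ag'.homEquiv _ _ (Pg'.map (af.counit.app F))) = Rf.map (ag'.unit.app F) := by
    have := ag'.unit.naturality (af.counit.app F)
    simp only [Functor.id_map, Functor.comp_map] at this
    rw [Adjunction.homEquiv_unit (X := Pf.obj _)]
    erw [← this]
    simp [Adjunction.homEquiv_unit]
  erw [e2]
  simp

variable {C : K ⥤ A} {G₀ : A ⥤ K} {C' : K ⥤ S} {G' : S ⥤ K} (ac' : C' ⊣ G') (ac : C ⊣ G₀) (p : Rf ⋙ G' ≅ G₀)

theorem homEquiv_const_inv (M : K) :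
    ac.homEquiv _ _ (((Adjunction.leftAdjointUniq ((ac'.comp af).ofNatIsoRight p) ac).app M).inv) =
      ac'.unit.app M ≫ G'.map (af.unit.app (C'.obj M)) ≫ p.hom.app (Pf.obj (C'.obj M)) := by
  have h := Adjunction.unit_leftAdjointUniq_hom_app ((ac'.comp af).ofNatIsoRight p) ac M
  rw [Adjunction.homEquiv_unit, ← h, Category.assoc, ← Functor.map_comp, Iso.app_inv, Iso.hom_inv_id_app,
    CategoryTheory.Functor.map_id]
  erw [Category.comp_id]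
  rw [Adjunction.ofNatIsoRight_unit]
  simp

section Const

variable {GS : S ⥤ K} {GA : A ⥤ K} {GB : B ⥤ K} {GD : D ⥤ K} {CA : K ⥤ A} {CB : K ⥤ B}
  {CD : K ⥤ D} (acA : CA ⊣ GA) (acB : CB ⊣ GB) (acD : CD ⊣ GD)
  (σf : GS ⟶ Pf ⋙ GA) (σg : GS ⟶ Pg ⋙ GB) (σg' : GA ⟶ Pg' ⋙ GD) (σf' : GB ⟶ Pf' ⋙ GD)
  (σ₁ : GS ⟶ P₁ ⋙ GD) (σ₂ : GS ⟶ P₂ ⋙ GD)

theorem sq_const (M : K) (N : S) (η : M ⟶ GS.obj N) (jf : CA.obj M ⟶ Pf.obj N) (jg : CB.obj M ⟶ Pg.obj N)
    (jg' : CD.obj M ⟶ Pg'.obj (CA.obj M)) (jf' : CD.obj M ⟶ Pf'.obj (CB.obj M))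
    (hjf : acA.homEquiv _ _ jf = η ≫ σf.app _) (hjg : acB.homEquiv _ _ jg = η ≫ σg.app _)
    (hjg' : acD.homEquiv _ _ jg' = acA.unit.app M ≫ σg'.app _)
    (hjf' : acD.homEquiv _ _ jf' = acB.unit.app M ≫ σf'.app _)
    (h₁ : ∀ G, σ₁.app G ≫ GD.map ((pcomp af ag' a₁ c₁).hom.app G) = σf.app G ≫ σg'.app (Pf.obj G))
    (h₂ : ∀ G, σ₁.app G ≫ GD.map (pc.hom.app G) = σ₂.app G)
    (h₃ : ∀ G, σ₂.app G ≫ GD.map ((pcomp ag af' a₂ c₂).hom.app G) = σg.app G ≫ σf'.app (Pg.obj G)) :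
    jg' ≫ Pg'.map jf ≫ (sq af ag af' ag' a₁ a₂ c₁ c₂ pc).hom.app N = jf' ≫ Pf'.map jg := by
  apply (acD.homEquiv _ _).injective
  have sA : acD.homEquiv _ _ (jg' ≫ Pg'.map jf) = acA.homEquiv _ _ jf ≫ σg'.app _ := by
    have h := σg'.naturality jf
    simp only [Functor.comp_map] at h
    rw [Adjunction.homEquiv_naturality_right, hjg', Adjunction.homEquiv_unit, Category.assoc, Category.assoc, ← h]
  have sB : acD.homEquiv _ _ (jf' ≫ Pf'.map jg) = acB.homEquiv _ _ jg ≫ σf'.app _ := by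
    have h := σf'.naturality jg
    simp only [Functor.comp_map] at h
    rw [Adjunction.homEquiv_naturality_right, hjf', Adjunction.homEquiv_unit, Category.assoc, Category.assoc, ← h]
  rw [← Category.assoc, Adjunction.homEquiv_naturality_right, sA, hjf]
  erw [sB, hjg]
  simp only [Category.assoc, sq, Iso.trans_hom, Iso.symm_hom, NatTrans.comp_app, Functor.map_comp]
  rw [← reassoc_of% h₁, ← Functor.map_comp_assoc, Iso.hom_inv_id_app, CategoryTheory.Functor.map_id,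
    Category.id_comp, reassoc_of% h₂, h₃]

end Const

end Groth.Agent.EtMVLib.SquareGen

namespace Groth.Agent.EtMVLib.SquareGen

section Ext

variable {S A B D : Type*} [Category* S] [Category* A] [Category* B] [Category* D] [Abelian S] [Abelian A] [Abelian B]
  [Abelian D] [HasExt.{w} S] [HasExt.{w} A] [HasExt.{w} B] [HasExt.{w} D] [EnoughInjectives S]

theorem ext_square (Pf : S ⥤ A) (Pg : S ⥤ B) (Pg' : A ⥤ D) (Pf' : B ⥤ D)
    [Pf.Additive] [PreservesFiniteLimits Pf] [PreservesFiniteColimits Pf]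
    [Pg.Additive] [PreservesFiniteLimits Pg] [PreservesFiniteColimits Pg]
    [Pg'.Additive] [PreservesFiniteLimits Pg'] [PreservesFiniteColimits Pg']
    [Pf'.Additive] [PreservesFiniteLimits Pf'] [PreservesFiniteColimits Pf']
    (θ : Pf ⋙ Pg' ≅ Pg ⋙ Pf') {kS G : S} {kA : A} {kB : B} {kD : D} (jf : kA ⟶ Pf.obj kS) (jg : kB ⟶ Pg.obj kS)
    (jg' : kD ⟶ Pg'.obj kA) (jf' : kD ⟶ Pf'.obj kB)
    (hj : jg' ≫ Pg'.map jf ≫ θ.hom.app kS = jf' ≫ Pf'.map jg) {n : ℕ} (ξ : Ext kS G n) :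
    ((Ext.mk₀ jg').comp (((Ext.mk₀ jf).comp (ξ.mapExactFunctor Pf) (zero_add n)).mapExactFunctor Pg') (zero_add n)).comp
        (Ext.mk₀ (θ.hom.app G)) (add_zero n) =
      (Ext.mk₀ jf').comp (((Ext.mk₀ jg).comp (ξ.mapExactFunctor Pg) (zero_add n)).mapExactFunctor Pf') (zero_add n) := by
  have : PreservesFiniteLimits (Pf ⋙ Pg') := comp_preservesFiniteLimits _ _
  have : PreservesFiniteColimits (Pf ⋙ Pg') := comp_preservesFiniteColimits _ _
  have : PreservesFiniteLimits (Pg ⋙ Pf') := comp_preservesFiniteLimits _ _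
  have : PreservesFiniteColimits (Pg ⋙ Pf') := comp_preservesFiniteColimits _ _
  simp only [Ext.mapExactFunctor_comp, Ext.mapExactFunctor_mk₀, Ext.mk₀_comp_mk₀_assoc, ← mapExactFunctor_functorComp]
  rw [Ext.comp_assoc_of_third_deg_zero]
  erw [mapExactFunctor_natTrans _ _ θ.hom ξ]
  rw [Ext.mk₀_comp_mk₀_assoc, Category.assoc]
  erw [hj]

end Ext

end Groth.Agent.EtMVLib.SquareGen
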