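import Groth.Agent.EtMVLib.PullSec
import Groth.Agent.EtMVLib.HpullApply
import Groth.Agent.EtMVLib.ExtTools
import Groth.Agent.EtMVLib.SquareGen

/-! pullback on cohomology along a commutative square -/

universe u

open CategoryTheory CategoryTheory.Limits AlgebraicGeometry Opposite CategoryTheory.Abelian

namespace Groth.Agent.EtMVLib

set_option backward.isDefEq.respectTransparency.types false

variable {X Y X' Y' : Scheme.{u}}

theorem pushCongr_rfl (f : X ⟶ Y) : EtCoh.pushCongr (rfl : f = f) = Iso.refl _ := by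
  have e : (MorphismProperty.Over.pullbackCongr (P := EtCoh.etaleMP) (Q := ⊤) (rfl : f = f)) = Iso.refl _ := by
    ext U : 3
    ext
    apply pullback.hom_ext <;> (simp [MorphismProperty.Over.pullbackCongr]; rfl)
  ext K U
  simp [EtCoh.pushCongr, e]
  erw [K.obj.map_id]
  rfl

theorem homEquiv_pullCongr {a b : X ⟶ Y} (h : a = b) {G : EtCoh.Ab Y} {K : EtCoh.Ab X}
    (k : (EtCoh.pull b).obj G ⟶ K) :
    (EtCoh.pullPushAdj a).homEquiv _ _ ((EtCore.pullCongr h).hom.app G ≫ k) =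
      (EtCoh.pullPushAdj b).homEquiv _ _ k ≫ (EtCoh.pushCongr h).inv.app K := by
  subst h
  rw [pushCongr_rfl]
  simp [EtCore.pullCongr]

theorem pullSec_congr {a b : X ⟶ Y} (h : a = b) (G : EtCoh.Ab Y) :
    (pullSec a).app G ≫ (EtCore.gsec X).map ((EtCore.pullCongr h).hom.app G) = (pullSec b).app G := by
  subst h
  simp [EtCore.pullCongr]

/-- the comparison of the two pullbacks around a commutative square -/
noncomputable def sqIso (f : X ⟶ Y) (g : Y' ⟶ Y) (f' : X' ⟶ Y') (g' : X' ⟶ X) (w : g' ≫ f = f' ≫ g) :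
    EtCoh.pull f ⋙ EtCoh.pull g' ≅ EtCoh.pull g ⋙ EtCoh.pull f' :=
  (EtCore.pullComp g' f).symm ≪≫ EtCore.pullCongr w ≪≫ EtCore.pullComp f' g

theorem homEquiv_pullComp (k : X' ⟶ X) (t : X ⟶ Y) {G : EtCoh.Ab Y} {K : EtCoh.Ab X'}
    (m : (EtCoh.pull k).obj ((EtCoh.pull t).obj G) ⟶ K) :
    (EtCoh.pullPushAdj (k ≫ t)).homEquiv _ _ ((EtCore.pullComp k t).hom.app G ≫ m) =
      (EtCoh.pullPushAdj t).homEquiv _ _ ((EtCoh.pullPushAdj k).homEquiv _ _ m) ≫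
        (EtCoh.pushComp t k).hom.app K :=
  SquareGen.homEquiv_pcomp (EtCoh.pullPushAdj t) (EtCoh.pullPushAdj k) (EtCoh.pullPushAdj (k ≫ t))
    (EtCoh.pushComp t k) m

theorem sqIso_eq (f : X ⟶ Y) (g : Y' ⟶ Y) (f' : X' ⟶ Y') (g' : X' ⟶ X) (w : g' ≫ f = f' ≫ g) :
    sqIso f g f' g' w = SquareGen.sq (EtCoh.pullPushAdj f) (EtCoh.pullPushAdj g) (EtCoh.pullPushAdj f') (EtCoh.pullPushAdj g')
      (EtCoh.pullPushAdj (g' ≫ f)) (EtCoh.pullPushAdj (f' ≫ g)) (EtCoh.pushComp f g') (EtCoh.pushComp g f')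
      (EtCore.pullCongr w) := rfl

theorem baseChange0_eq (f : X ⟶ Y) (g : Y' ⟶ Y) (f' : X' ⟶ Y') (g' : X' ⟶ X) (w : g' ≫ f = f' ≫ g) (F : EtCoh.Ab X) :
    EtCoh.baseChange0 f g f' g' w F = ((EtCoh.pullPushAdj g).homEquiv _ _).symm ((EtCoh.push f).map ((EtCoh.pullPushAdj g').unit.app F) ≫ (EtCoh.pushComp f g').hom.app _ ≫
      (EtCoh.pushCongr w).hom.app _ ≫ (EtCoh.pushComp g f').inv.app _) := rfl

theorem sqIso_counit (f : X ⟶ Y) (g : Y' ⟶ Y) (f' : X' ⟶ Y') (g' : X' ⟶ X) (w : g' ≫ f = f' ≫ g)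
    (F : EtCoh.Ab X) :
    (sqIso f g f' g' w).hom.app ((EtCoh.push f).obj F) ≫
        (EtCoh.pull f').map (EtCoh.baseChange0 f g f' g' w F) ≫
          (EtCoh.pullPushAdj f').counit.app ((EtCoh.pull g').obj F) =
      (EtCoh.pull g').map ((EtCoh.pullPushAdj f).counit.app F) := by
  rw [sqIso_eq, baseChange0_eq]
  exact SquareGen.sq_counit _ _ _ _ _ _ _ _ _ _ (fun k => homEquiv_pullCongr w k) F

theorem sqIso_pullConst (f : X ⟶ Y) (g : Y' ⟶ Y) (f' : X' ⟶ Y') (g' : X' ⟶ X) (w : g' ≫ f = f' ≫ g)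
    (M : Type) [AddCommGroup M] :
    (EtCore.pullConst g' M).inv ≫ (EtCoh.pull g').map (EtCore.pullConst f M).inv ≫
        (sqIso f g f' g' w).hom.app (EtCoh.const Y M) =
      (EtCore.pullConst f' M).inv ≫ (EtCoh.pull f').map (EtCore.pullConst g M).inv := by
  rw [sqIso_eq]
  exact SquareGen.sq_const (EtCoh.pullPushAdj f) (EtCoh.pullPushAdj g) (EtCoh.pullPushAdj f') (EtCoh.pullPushAdj g')
    (EtCoh.pullPushAdj (g' ≫ f)) (EtCoh.pullPushAdj (f' ≫ g)) (EtCoh.pushComp f g') (EtCoh.pushComp g f')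
    (EtCore.pullCongr w) (EtCore.constAdj X) (EtCore.constAdj Y') (EtCore.constAdj X')
    (pullSec f) (pullSec g) (pullSec g') (pullSec f') (pullSec (g' ≫ f)) (pullSec (f' ≫ g))
    (AddCommGrpCat.of (ULift.{u+1} M)) (EtCoh.const Y M)
    ((EtCore.constAdj Y).unit.app (AddCommGrpCat.of (ULift.{u+1} M))) _ _ _ _
    (homEquiv_pullConst_inv f M) (homEquiv_pullConst_inv g M) (homEquiv_pullConst_inv g' M)
    (homEquiv_pullConst_inv f' M)
    (fun G => pullSec_comp g' f G) (fun G => pullSec_congr w G) (fun G => pullSec_comp f' g G)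

theorem Hpull_square (f : X ⟶ Y) (g : Y' ⟶ Y) (f' : X' ⟶ Y') (g' : X' ⟶ X) (w : g' ≫ f = f' ≫ g)
    [PreservesFiniteLimits (EtCoh.pull f)] [PreservesFiniteLimits (EtCoh.pull g)]
    [PreservesFiniteLimits (EtCoh.pull f')] [PreservesFiniteLimits (EtCoh.pull g')]
    (G : EtCoh.Ab Y) (n : ℕ) (ξ : EtCoh.H Y G n) :
    Ext.comp (EtCore.Hpull g' _ n (EtCore.Hpull f G n ξ)) (Ext.mk₀ ((sqIso f g f' g' w).hom.app G))
        (add_zero n) =
      EtCore.Hpull f' _ n (EtCore.Hpull g G n ξ) :=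
  SquareGen.ext_square (EtCoh.pull f) (EtCoh.pull g) (EtCoh.pull g') (EtCoh.pull f') (sqIso f g f' g' w)
    (EtCore.pullConst f ℤ).inv (EtCore.pullConst g ℤ).inv (EtCore.pullConst g' ℤ).inv (EtCore.pullConst f' ℤ).inv
    (sqIso_pullConst f g f' g' w ℤ) ξ

end Groth.Agent.EtMVLib
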