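import Groth.Agent.EtMVLib.SES
import Groth.Agent.EtMVLib.HpullApply

/-! Mayer-Vietoris -/

universe u

open CategoryTheory CategoryTheory.Limits AlgebraicGeometry Opposite CategoryTheory.Abelian

namespace Groth.Agent.EtMVLib

set_option backward.isDefEq.respectTransparency.types false

theorem HpullVia_apply' {W U X : Scheme.{u}} (j : U ⟶ X) (w : W ⟶ X) (k : W ⟶ U) (e : k ≫ j = w)
    [PreservesFiniteLimits (EtCoh.pull k)] (F : EtCoh.Ab X) (n : ℕ)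
    (β : EtCoh.H U ((EtCoh.pull j).obj F) n) :
    EtCore.HpullVia k j w e F n β =
      ((Ext.mk₀ (EtCore.pullConst k ℤ).inv).comp (β.mapExactFunctor (EtCoh.pull k)) (zero_add n)).comp
        (Ext.mk₀ ((θ j w k e).hom.app F)) (add_zero n) := HpullVia_apply k j w e F n β

theorem mayerVietoris (X : Scheme.{u}) (U V : X.Opens) (hUV : U ⊔ V = ⊤) (F : EtCoh.Ab X)
    [PreservesFiniteLimits (EtCoh.pull U.ι)] [PreservesFiniteLimits (EtCoh.pull V.ι)]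
    [PreservesFiniteLimits (EtCoh.pull (X.homOfLE (inf_le_left : U ⊓ V ≤ U)))]
    [PreservesFiniteLimits (EtCoh.pull (X.homOfLE (inf_le_right : U ⊓ V ≤ V)))] :
    ∃ δ : ∀ n : ℕ, EtCoh.H ↑(U ⊓ V) ((EtCoh.pull (U ⊓ V).ι).obj F) n →+ EtCoh.H X F (n + 1),
      (AddMonoidHom.prod (EtCore.Hpull U.ι F 0) (EtCore.Hpull V.ι F 0)).ker = ⊥ ∧
      (∀ n : ℕ, (AddMonoidHom.prod (EtCore.Hpull U.ι F (n + 1)) (EtCore.Hpull V.ι F (n + 1))).ker = (δ n).range) ∧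
      (∀ n : ℕ, (((EtCore.HpullVia (X.homOfLE (inf_le_left : U ⊓ V ≤ U)) U.ι (U ⊓ V).ι (X.homOfLE_ι inf_le_left) F n)).comp (AddMonoidHom.fst _ _) - ((EtCore.HpullVia (X.homOfLE (inf_le_right : U ⊓ V ≤ V)) V.ι (U ⊓ V).ι (X.homOfLE_ι inf_le_right) F n)).comp (AddMonoidHom.snd _ _)).ker =
        (AddMonoidHom.prod (EtCore.Hpull U.ι F n) (EtCore.Hpull V.ι F n)).range) ∧
      (∀ n : ℕ, (δ n).ker = (((EtCore.HpullVia (X.homOfLE (inf_le_left : U ⊓ V ≤ U)) U.ι (U ⊓ V).ι (X.homOfLE_ι inf_le_left) F n)).comp (AddMonoidHom.fst _ _) - ((EtCore.HpullVia (X.homOfLE (inf_le_right : U ⊓ V ≤ V)) V.ι (U ⊓ V).ι (X.homOfLE_ι inf_le_right) F n)).comp (AddMonoidHom.snd _ _)).range) := by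
  have := EtFound.pull_preservesFiniteLimits (U ⊓ V).ι
  have := preservesMono_extZero U.ι
  have := preservesMono_extZero V.ι
  have := preservesMono_extZero (U ⊓ V).ι
  exact abstract_mv (EtCoh.pull U.ι) (EtCoh.pull V.ι) (EtCoh.pull (U ⊓ V).ι)
    (EtCore.pullConst U.ι ℤ).inv (EtCore.pullConst V.ι ℤ).inv
    (shriekAdj U.ι) (shriekAdj V.ι) (shriekAdj (U ⊓ V).ι)
    (EtCoh.pull (X.homOfLE inf_le_left)) (EtCoh.pull (X.homOfLE inf_le_right))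
    (EtCore.pullConst (X.homOfLE (inf_le_left : U ⊓ V ≤ U)) ℤ).inv
    (EtCore.pullConst (X.homOfLE (inf_le_right : U ⊓ V ≤ V)) ℤ).inv
    (θ U.ι (U ⊓ V).ι (X.homOfLE inf_le_left) (X.homOfLE_ι inf_le_left))
    (θ V.ι (U ⊓ V).ι (X.homOfLE inf_le_right) (X.homOfLE_ι inf_le_right))
    (shriekZMap_comp U.ι (U ⊓ V).ι (X.homOfLE inf_le_left) (X.homOfLE_ι inf_le_left))
    (shriekZMap_comp V.ι (U ⊓ V).ι (X.homOfLE inf_le_right) (X.homOfLE_ι inf_le_right))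
    (mvComplex_shortExact U V hUV) F
    (fun n => EtCore.Hpull U.ι F n) (fun n ξ => Hpull_apply U.ι F n ξ)
    (fun n => EtCore.Hpull V.ι F n) (fun n ξ => Hpull_apply V.ι F n ξ)
    (fun n => EtCore.HpullVia (X.homOfLE inf_le_left) U.ι (U ⊓ V).ι (X.homOfLE_ι inf_le_left) F n)
    (fun n β => HpullVia_apply' U.ι (U ⊓ V).ι (X.homOfLE inf_le_left) (X.homOfLE_ι inf_le_left) F n β)
    (fun n => EtCore.HpullVia (X.homOfLE inf_le_right) V.ι (U ⊓ V).ι (X.homOfLE_ι inf_le_right) F n)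
    (fun n β => HpullVia_apply' V.ι (U ⊓ V).ι (X.homOfLE inf_le_right) (X.homOfLE_ι inf_le_right) F n β)

end Groth.Agent.EtMVLib
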