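import Mathlib.Algebra.Homology.ShortComplex.ShortExact
import Mathlib.CategoryTheory.Preadditive.Biproducts

/-! short exactness of Mayer-Vietoris shaped complexes after applying a functor -/

open CategoryTheory CategoryTheory.Limits

namespace Groth.Agent.EtMVLib

variable {A D : Type*} [Category* A] [Category* D] [Abelian A] [Abelian D] (S : A ⥤ D) [S.Additive]
  {W U V Z : A} (a : W ⟶ U) (b : W ⟶ V) (p : U ⟶ Z) (q : V ⟶ Z)

omit [Abelian D] [Category D] in
theorem lift_neg_desc_zero {r : W ⟶ Z} (ha : a ≫ p = r) (hb : b ≫ q = r) :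
    biprod.lift a (-b) ≫ biprod.desc p q = 0 := by
  rw [biprod.lift_desc, Preadditive.neg_comp, ha, hb, add_neg_cancel]

omit [Category D] [Abelian D] in
/-- the Mayer-Vietoris shaped complex -/
noncomputable def mvSC {r : W ⟶ Z} (ha : a ≫ p = r) (hb : b ≫ q = r) : ShortComplex A :=
  ShortComplex.mk _ _ (lift_neg_desc_zero a b p q ha hb)

theorem shortExact_map_of_isIso {r : W ⟶ Z} (ha : a ≫ p = r) (hb : b ≫ q = r)
    [IsIso (S.map p)] [IsIso (S.map q)] [IsIso (S.map r)] :
    ((mvSC a b p q ha hb).map S).ShortExact := by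
  have : IsIso (S.map b) :=
    have : IsIso (S.map b ≫ S.map q) := by rw [← S.map_comp, hb]; infer_instance
    IsIso.of_isIso_comp_right (S.map b) (S.map q)
  have e1 : inv (S.map b) ≫ S.map a = S.map q ≫ inv (S.map p) := by
    rw [IsIso.inv_comp_eq, ← Category.assoc, IsIso.eq_comp_inv, ← S.map_comp, ← S.map_comp, ha, hb]
  have h : S.map (biprod.lift a (-b)) ≫ S.map (biprod.desc p q) = 0 := by
    rw [← S.map_comp, lift_neg_desc_zero a b p q ha hb, S.map_zero]
  have hid : (-(S.map (biprod.snd : U ⊞ V ⟶ V) ≫ inv (S.map b))) ≫ S.map (biprod.lift a (-b)) +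
      S.map (biprod.desc p q) ≫ inv (S.map p) ≫ S.map (biprod.inl : U ⟶ U ⊞ V) = 𝟙 (S.obj (U ⊞ V)) := by
    rw [biprod.lift_eq, S.map_add, S.map_comp, S.map_comp, S.map_neg, biprod.desc_eq, S.map_add,
      S.map_comp, S.map_comp, ← S.map_id, ← biprod.total, S.map_add, S.map_comp, S.map_comp]
    simp only [Preadditive.neg_comp, Preadditive.comp_add, Preadditive.comp_neg, Category.assoc,
      Preadditive.add_comp, IsIso.inv_hom_id_assoc, IsIso.hom_inv_id_assoc, neg_add_rev, neg_neg]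
    rw [reassoc_of% e1]
    abel
  change (ShortComplex.mk _ _ h).ShortExact
  refine ShortComplex.Splitting.shortExact
    { r := -(S.map (biprod.snd : U ⊞ V ⟶ V) ≫ inv (S.map b))
      s := inv (S.map p) ≫ S.map (biprod.inl : U ⟶ U ⊞ V)
      f_r := ?_
      s_g := ?_
      id := ?_ }
  · change S.map (biprod.lift a (-b)) ≫ _ = 𝟙 _
    rw [Preadditive.comp_neg, ← Category.assoc, ← S.map_comp, biprod.lift_snd, S.map_neg,
      Preadditive.neg_comp, neg_neg, IsIso.hom_inv_id]
  · change _ ≫ S.map (biprod.desc p q) = 𝟙 _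
    rw [Category.assoc, ← S.map_comp, biprod.inl_desc, IsIso.inv_hom_id]
  · exact hid

theorem shortExact_map_of_isZero {r : W ⟶ Z} (ha : a ≫ p = r) (hb : b ≫ q = r)
    (hW : IsZero (S.obj W))
    (hcase : (IsIso (S.map p) ∧ IsZero (S.obj V)) ∨ (IsIso (S.map q) ∧ IsZero (S.obj U))) :
    ((mvSC a b p q ha hb).map S).ShortExact := by
  suffices hg : IsIso (S.map (biprod.desc p q)) by
    have : IsIso ((mvSC a b p q ha hb).map S).g := hg
    exact ShortComplex.ShortExact.mk' ((ShortComplex.exact_iff_mono _ (hW.eq_of_src _ _)).2 inferInstance)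
      ⟨fun _ _ _ => hW.eq_of_tgt _ _⟩ inferInstance
  have key : ∀ {U' : A} (i : U' ⟶ U ⊞ V) (π : U ⊞ V ⟶ U') (p' : U' ⟶ Z),
      i ≫ biprod.desc p q = p' → S.map (π ≫ i) = 𝟙 _ → IsIso (S.map p') →
        IsIso (S.map (biprod.desc p q)) := fun {U'} i π p' hi hπ _ => by
    have : biprod.desc p q = biprod.desc p q := rfl
    have hd : S.map (biprod.desc p q) = S.map π ≫ S.map p' := by
      rw [← hi, ← S.map_comp, ← Category.assoc, S.map_comp (π ≫ i), hπ, Category.id_comp]
    refine ⟨inv (S.map p') ≫ S.map i, ?_, ?_⟩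
    · rw [hd, Category.assoc, IsIso.hom_inv_id_assoc, ← S.map_comp, hπ]
    · rw [Category.assoc, ← S.map_comp, hi, IsIso.inv_hom_id]
  rcases hcase with ⟨hp, hV⟩ | ⟨hq, hU⟩
  · refine key biprod.inl biprod.fst p (biprod.inl_desc _ _) ?_ hp
    rw [← S.map_id, ← biprod.total, S.map_add, S.map_comp biprod.snd,
      hV.eq_of_src (S.map biprod.inr) 0, comp_zero, add_zero]
  · refine key biprod.inr biprod.snd q (biprod.inr_desc _ _) ?_ hq
    rw [← S.map_id, ← biprod.total, S.map_add, S.map_comp biprod.fst,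
      hU.eq_of_src (S.map biprod.inl) 0, comp_zero, zero_add]

end Groth.Agent.EtMVLib
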