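import Groth.Agent.EtMVLib.ExtTools
import Groth.Agent.EtMVLib.BiprodSES

/-! abstract Mayer-Vietoris sequences for Ext -/

universe w

open CategoryTheory CategoryTheory.Limits CategoryTheory.Abelian

namespace Groth.Agent.EtMVLib

section Basic

variable {A B C : Type*} [Category* A] [Category* B] [Category* C] [Abelian A] [Abelian B] [Abelian C]
  [HasExt.{w} A] [HasExt.{w} B] [HasExt.{w} C] [EnoughInjectives A]
  {Z : A} {cB : B} {cC : C}
  (R : A ⥤ B) [R.Additive] [PreservesFiniteLimits R] [PreservesFiniteColimits R]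
  (c : cB ⟶ R.obj Z)

/-- pullback on Ext groups from a distinguished object -/
noncomputable def hp (F : A) (n : ℕ) : Ext Z F n →+ Ext cB (R.obj F) n :=
  AddMonoidHom.comp
    (AddMonoidHom.mk' (fun e => (Ext.mk₀ c).comp e (zero_add n)) (fun _ _ => Ext.comp_add _ _ _ _))
    (R.mapExtAddHom _ _ n)

variable {L : B ⥤ A} (adj : L ⊣ R)

theorem hp_eq (F : A) (n : ℕ) (ξ : Ext Z F n) :
    hp R c F n ξ =
      adjExtMap adj cB F n ((Ext.mk₀ ((adj.homEquiv _ _).symm c)).comp ξ (zero_add n)) := by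
  rw [adjExtMap_comp, adjExtMap_mk₀, Equiv.apply_symm_apply]
  rfl

variable (R' : A ⥤ C) [R'.Additive] [PreservesFiniteLimits R'] [PreservesFiniteColimits R']
  (K : B ⥤ C) [K.Additive] [PreservesFiniteLimits K] [PreservesFiniteColimits K]
  (cK : cC ⟶ K.obj cB) (θ : R ⋙ K ≅ R')

/-- relative pullback -/
noncomputable def via (F : A) (n : ℕ) : Ext cB (R.obj F) n →+ Ext cC (R'.obj F) n :=
  ((Ext.mk₀ (θ.hom.app F)).postcomp cC (add_zero n)).comp (hp K cK (R.obj F) n)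

variable {L' : C ⥤ A} (adj' : L' ⊣ R')

/-- transition map -/
noncomputable def transMap : L'.obj cC ⟶ L.obj cB :=
  (adj'.homEquiv _ _).symm (cK ≫ K.map (adj.unit.app cB) ≫ θ.hom.app (L.obj cB))

omit [HasExt.{w} A] [HasExt.{w} B] [HasExt.{w} C] [R.Additive] [PreservesFiniteLimits R]
  [PreservesFiniteColimits R] [R'.Additive] [PreservesFiniteLimits R'] [PreservesFiniteColimits R']
  [K.Additive] [PreservesFiniteLimits K] [PreservesFiniteColimits K] [EnoughInjectives A] in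
theorem transMap_comp (c' : cC ⟶ R'.obj Z) (h : cK ≫ K.map c ≫ θ.hom.app Z = c') :
    transMap R adj R' K cK θ adj' ≫ (adj.homEquiv _ _).symm c = (adj'.homEquiv _ _).symm c' := by
  rw [transMap, ← Adjunction.homEquiv_naturality_right_symm]
  refine congrArg (adj'.homEquiv _ _).symm ?_
  rw [← h, Category.assoc, Category.assoc, ← θ.hom.naturality, Functor.comp_map, ← K.map_comp_assoc]
  refine congrArg (fun m => cK ≫ K.map m ≫ θ.hom.app Z) ?_
  rw [← Adjunction.homEquiv_unit, Equiv.apply_symm_apply]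

theorem via_eq (F : A) (n : ℕ) (α : Ext (L.obj cB) F n) :
    via R R' K cK θ F n (adjExtMap adj cB F n α) =
      adjExtMap adj' cC F n ((Ext.mk₀ (transMap R adj R' K cK θ adj')).comp α (zero_add n)) := by
  have : PreservesFiniteLimits (R ⋙ K) := comp_preservesFiniteLimits _ _
  have : PreservesFiniteColimits (R ⋙ K) := comp_preservesFiniteColimits _ _
  rw [adjExtMap_comp, adjExtMap_mk₀, transMap, Equiv.apply_symm_apply]
  change ((Ext.mk₀ cK).comp
    (((Ext.mk₀ (adj.unit.app _)).comp (α.mapExactFunctor R) (zero_add n)).mapExactFunctor K)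
      (zero_add n)).comp (Ext.mk₀ (θ.hom.app F)) (add_zero n) = _
  rw [Ext.mapExactFunctor_comp, Ext.mapExactFunctor_mk₀, ← mapExactFunctor_functorComp,
    Ext.mk₀_comp_mk₀_assoc, Ext.comp_assoc_of_third_deg_zero]
  erw [mapExactFunctor_natTrans _ _ θ.hom α]
  rw [Ext.mk₀_comp_mk₀_assoc]
  simp only [Category.assoc]

end Basic

variable {A BU BV BW : Type*} [Category* A] [Category* BU] [Category* BV] [Category* BW]
  [Abelian A] [Abelian BU] [Abelian BV] [Abelian BW] [EnoughInjectives A]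
  [HasExt.{w} A] [HasExt.{w} BU] [HasExt.{w} BV] [HasExt.{w} BW]
  {Z : A} {cU : BU} {cV : BV} {cW : BW}
  (RU : A ⥤ BU) (RV : A ⥤ BV) (RW : A ⥤ BW)
  [RU.Additive] [PreservesFiniteLimits RU] [PreservesFiniteColimits RU]
  [RV.Additive] [PreservesFiniteLimits RV] [PreservesFiniteColimits RV]
  [RW.Additive] [PreservesFiniteLimits RW] [PreservesFiniteColimits RW]
  (qU : cU ⟶ RU.obj Z) (qV : cV ⟶ RV.obj Z)
  {LU : BU ⥤ A} {LV : BV ⥤ A} {LW : BW ⥤ A}
  (adjU : LU ⊣ RU) (adjV : LV ⊣ RV) (adjW : LW ⊣ RW)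
  (KU : BU ⥤ BW) [KU.Additive] [PreservesFiniteLimits KU] [PreservesFiniteColimits KU]
  (KV : BV ⥤ BW) [KV.Additive] [PreservesFiniteLimits KV] [PreservesFiniteColimits KV]
  (kU : cW ⟶ KU.obj cU) (kV : cW ⟶ KV.obj cV) (θU : RU ⋙ KU ≅ RW) (θV : RV ⋙ KV ≅ RW)

theorem abstract_mv [LU.PreservesMonomorphisms] [LV.PreservesMonomorphisms] [LW.PreservesMonomorphisms]
    {e : LW.obj cW ⟶ Z}
    (ha : transMap RU adjU RW KU kU θU adjW ≫ (adjU.homEquiv _ _).symm qU = e)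
    (hb : transMap RV adjV RW KV kV θV adjW ≫ (adjV.homEquiv _ _).symm qV = e)
    (hS : (mvSC _ _ _ _ ha hb).ShortExact) (F : A)
    (PU : ∀ n : ℕ, Ext Z F n →+ Ext cU (RU.obj F) n)
    (hPU : ∀ n ξ, PU n ξ = (Ext.mk₀ qU).comp (ξ.mapExactFunctor RU) (zero_add n))
    (PV : ∀ n : ℕ, Ext Z F n →+ Ext cV (RV.obj F) n)
    (hPV : ∀ n ξ, PV n ξ = (Ext.mk₀ qV).comp (ξ.mapExactFunctor RV) (zero_add n))
    (VU : ∀ n : ℕ, Ext cU (RU.obj F) n →+ Ext cW (RW.obj F) n)
    (hVU : ∀ n β, VU n β = ((Ext.mk₀ kU).comp (β.mapExactFunctor KU) (zero_add n)).comp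
      (Ext.mk₀ (θU.hom.app F)) (add_zero n))
    (VV : ∀ n : ℕ, Ext cV (RV.obj F) n →+ Ext cW (RW.obj F) n)
    (hVV : ∀ n β, VV n β = ((Ext.mk₀ kV).comp (β.mapExactFunctor KV) (zero_add n)).comp
      (Ext.mk₀ (θV.hom.app F)) (add_zero n)) :
    ∃ δ : ∀ n : ℕ, Ext cW (RW.obj F) n →+ Ext Z F (n + 1),
      (AddMonoidHom.prod (PU 0) (PV 0)).ker = ⊥ ∧
      (∀ n : ℕ, (AddMonoidHom.prod (PU (n + 1)) (PV (n + 1))).ker = (δ n).range) ∧
      (∀ n : ℕ, ((VU n).comp (AddMonoidHom.fst _ _) - (VV n).comp (AddMonoidHom.snd _ _)).ker =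
        (AddMonoidHom.prod (PU n) (PV n)).range) ∧
      (∀ n : ℕ, (δ n).ker = ((VU n).comp (AddMonoidHom.fst _ _) -
          (VV n).comp (AddMonoidHom.snd _ _)).range) := by
  obtain rfl : PU = fun n => hp RU qU F n := funext fun n => AddMonoidHom.ext (hPU n)
  obtain rfl : PV = fun n => hp RV qV F n := funext fun n => AddMonoidHom.ext (hPV n)
  obtain rfl : VU = fun n => via RU RW KU kU θU F n := funext fun n => AddMonoidHom.ext (hVU n)
  obtain rfl : VV = fun n => via RV RW KV kV θV F n := funext fun n => AddMonoidHom.ext (hVV n)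
  change (ShortComplex.mk _ _ (lift_neg_desc_zero _ _ _ _ ha hb)).ShortExact at hS
  set S := ShortComplex.mk _ _ (lift_neg_desc_zero _ _ _ _ ha hb)
  let eW : ∀ n, Ext cW (RW.obj F) n →+ Ext (LW.obj cW) F n := fun n =>
    (AddEquiv.ofBijective (adjExtMap adjW cW F n) (adjExtMap_bijective adjW cW F n)).symm.toAddMonoidHom
  let δ : ∀ n : ℕ, Ext cW (RW.obj F) n →+ Ext Z F (n + 1) := fun n =>
    AddMonoidHom.mk' (fun η => hS.extClass.comp (eW n η) (add_comm 1 n)) fun a b => by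
      rw [map_add, Ext.comp_add]
  have heW : ∀ n (η : Ext cW (RW.obj F) n), adjExtMap adjW cW F n (eW n η) = η := fun n η =>
    (AddEquiv.ofBijective _ (adjExtMap_bijective adjW cW F n)).apply_symm_apply η
  have heW' : ∀ n (α : Ext (LW.obj cW) F n), eW n (adjExtMap adjW cW F n α) = α := fun n α =>
    (AddEquiv.ofBijective _ (adjExtMap_bijective adjW cW F n)).symm_apply_apply α
  have gl : biprod.inl ≫ S.g = (adjU.homEquiv _ _).symm qU := biprod.inl_desc _ _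
  have gr : biprod.inr ≫ S.g = (adjV.homEquiv _ _).symm qV := biprod.inr_desc _ _
  have hpq : ∀ n (ξ : Ext Z F n),
      hp RU qU F n ξ = adjExtMap adjU cU F n ((Ext.mk₀ biprod.inl).comp
          ((Ext.mk₀ S.g).comp ξ (zero_add n)) (zero_add n)) ∧
      hp RV qV F n ξ = adjExtMap adjV cV F n ((Ext.mk₀ biprod.inr).comp
          ((Ext.mk₀ S.g).comp ξ (zero_add n)) (zero_add n)) := fun n ξ =>
    ⟨(hp_eq RU qU adjU F n ξ).trans (congrArg _ (by rw [Ext.mk₀_comp_mk₀_assoc, gl])),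
      (hp_eq RV qV adjV F n ξ).trans (congrArg _ (by rw [Ext.mk₀_comp_mk₀_assoc, gr]))⟩
  have hd : ∀ n (γ : Ext S.X₂ F n),
      via RU RW KU kU θU F n (adjExtMap adjU cU F n ((Ext.mk₀ biprod.inl).comp γ (zero_add n))) -
        via RV RW KV kV θV F n (adjExtMap adjV cV F n ((Ext.mk₀ biprod.inr).comp γ (zero_add n))) =
      adjExtMap adjW cW F n ((Ext.mk₀ S.f).comp γ (zero_add n)) := fun n γ => by
    rw [via_eq RU adjU RW KU kU θU adjW, via_eq RV adjV RW KV kV θV adjW, ← map_sub,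
      Ext.mk₀_comp_mk₀_assoc, Ext.mk₀_comp_mk₀_assoc]
    refine congrArg _ ?_
    change _ = (Ext.mk₀ (biprod.lift _ (-_))).comp γ (zero_add n)
    rw [biprod.lift_eq, Ext.mk₀_add, Ext.add_comp, Preadditive.neg_comp, Ext.mk₀_neg, Ext.neg_comp,
      ← sub_eq_add_neg]
  have hsurj : ∀ n (a : Ext cU (RU.obj F) n) (b : Ext cV (RV.obj F) n),
      ∃ γ : Ext S.X₂ F n, adjExtMap adjU cU F n ((Ext.mk₀ biprod.inl).comp γ (zero_add n)) = a ∧
        adjExtMap adjV cV F n ((Ext.mk₀ biprod.inr).comp γ (zero_add n)) = b := fun n a b => by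
    obtain ⟨α, rfl⟩ := (adjExtMap_bijective adjU cU F n).2 a
    obtain ⟨β, rfl⟩ := (adjExtMap_bijective adjV cV F n).2 b
    refine ⟨(Ext.mk₀ biprod.fst).comp α (zero_add n) + (Ext.mk₀ biprod.snd).comp β (zero_add n), ?_, ?_⟩ <;>
      rw [Ext.comp_add, Ext.mk₀_comp_mk₀_assoc, Ext.mk₀_comp_mk₀_assoc] <;> simp
  have hinj : ∀ n (γ : Ext S.X₂ F n),
      adjExtMap adjU cU F n ((Ext.mk₀ biprod.inl).comp γ (zero_add n)) = 0 →
      adjExtMap adjV cV F n ((Ext.mk₀ biprod.inr).comp γ (zero_add n)) = 0 → γ = 0 := fun n γ h1 h2 => by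
    refine Ext.biprod_ext ?_ ?_
    · rw [(map_eq_zero_iff _ (adjExtMap_bijective adjU cU F n).1).1 h1, Ext.comp_zero]
    · rw [(map_eq_zero_iff _ (adjExtMap_bijective adjV cV F n).1).1 h2, Ext.comp_zero]
  refine ⟨δ, ?_, fun n => ?_, fun n => ?_, fun n => ?_⟩
  · rw [AddSubgroup.eq_bot_iff_forall]
    intro ξ hξ
    have h := hinj 0 _ ((hpq 0 ξ).1.symm.trans (congrArg Prod.fst hξ))
      ((hpq 0 ξ).2.symm.trans (congrArg Prod.snd hξ))
    have : Epi S.g := hS.epi_g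
    exact Ext.precomp_mk₀_injective_of_epi F S.g (h.trans (Ext.comp_zero _ _ _ _ (zero_add 0)).symm)
  · ext ξ
    refine ⟨fun hξ => ?_, ?_⟩
    · obtain ⟨x₁, hx⟩ := Ext.contravariant_sequence_exact₃ hS F ξ
        (hinj _ _ ((hpq _ ξ).1.symm.trans (congrArg Prod.fst hξ))
          ((hpq _ ξ).2.symm.trans (congrArg Prod.snd hξ))) (add_comm 1 n)
      refine ⟨adjExtMap adjW cW F n x₁, ?_⟩
      change hS.extClass.comp (eW n (adjExtMap adjW cW F n x₁)) (add_comm 1 n) = ξ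
      rw [heW']
      exact hx
    · rintro ⟨η, rfl⟩
      have hz : (Ext.mk₀ S.g).comp (δ n η) (zero_add (n + 1)) = 0 :=
        hS.comp_extClass_assoc (eW n η) (add_comm 1 n)
      refine Prod.ext ?_ ?_
      · exact (hpq _ _).1.trans (by rw [hz, Ext.comp_zero, map_zero]; rfl)
      · exact (hpq _ _).2.trans (by rw [hz, Ext.comp_zero, map_zero]; rfl)
  · ext ⟨a, b⟩
    refine ⟨fun hab => ?_, ?_⟩
    · obtain ⟨γ, rfl, rfl⟩ := hsurj n a b
      have hz : (Ext.mk₀ S.f).comp γ (zero_add n) = 0 :=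
        (map_eq_zero_iff _ (adjExtMap_bijective adjW cW F n).1).1 ((hd n γ).symm.trans hab)
      obtain ⟨ξ, hξ⟩ := Ext.contravariant_sequence_exact₂ hS F γ hz
      exact ⟨ξ, Prod.ext ((hpq n ξ).1.trans (by rw [hξ])) ((hpq n ξ).2.trans (by rw [hξ]))⟩
    · rintro ⟨ξ, hξ⟩
      rw [← hξ]
      change via RU RW KU kU θU F n (hp RU qU F n ξ) - via RV RW KV kV θV F n (hp RV qV F n ξ) = 0
      rw [(hpq n ξ).1, (hpq n ξ).2, hd, Ext.mk₀_comp_mk₀_assoc, S.zero, Ext.mk₀_zero,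
        Ext.zero_comp, map_zero]
  · ext η
    refine ⟨fun hη => ?_, ?_⟩
    · obtain ⟨γ, hγ⟩ := Ext.contravariant_sequence_exact₁ hS F (eW n η) (add_comm 1 n) hη
      refine ⟨(adjExtMap adjU cU F n ((Ext.mk₀ biprod.inl).comp γ (zero_add n)),
        adjExtMap adjV cV F n ((Ext.mk₀ biprod.inr).comp γ (zero_add n))), ?_⟩
      refine (hd n γ).trans ?_
      rw [hγ, heW]
    · rintro ⟨⟨a, b⟩, rfl⟩
      obtain ⟨γ, rfl, rfl⟩ := hsurj n a b
      change hS.extClass.comp (eW n (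
        via RU RW KU kU θU F n (adjExtMap adjU cU F n ((Ext.mk₀ biprod.inl).comp γ (zero_add n))) -
        via RV RW KV kV θV F n (adjExtMap adjV cV F n ((Ext.mk₀ biprod.inr).comp γ (zero_add n)))))
          (add_comm 1 n) = 0
      rw [hd, heW']
      exact hS.extClass_comp_assoc _

end Groth.Agent.EtMVLib
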