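import Groth.Agent.EtMVLib.ExtTools
import Groth.Prelude.Def_HRes

/-! restriction maps on big site cohomology: identities and composites -/

universe w v u

open CategoryTheory CategoryTheory.Limits CategoryTheory.Abelian AlgebraicGeometry Opposite

namespace Groth.Agent.EtMVLib

theorem mapExactFunctor_id {C : Type u} [Category.{v} C] [Abelian C] [HasExt.{w} C] [EnoughInjectives C]
    {A B : C} {n : ℕ} (α : Ext A B n) : α.mapExactFunctor (𝟭 C) = α := by
  induction α using ext_induction with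
  | h0 A B f => rw [Ext.mapExactFunctor_mk₀]; rfl
  | hs A hS β ih =>
    rw [Ext.mapExactFunctor_comp, ih, Ext.mapExactFunctor_extClass]
    rfl

variable (K : Precoverage Scheme.{u})

/-- The constant sheaf with value the integers. -/
noncomputable abbrev bigZ (S : Scheme.{u}) : BigSite.Ab K S :=
  (constantSheaf (QuotSh.J K S) AddCommGrpCat.{u + 1}).obj (AddCommGrpCat.of (ULift.{u + 1} ℤ))

/-- The unit on sections. -/
noncomputable abbrev bigUnit (S : Scheme.{u}) (V : Over S) :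
    AddCommGrpCat.of (ULift.{u + 1} ℤ) ⟶ (bigZ K S).obj.obj (op V) :=
  (toSheafify (QuotSh.J K S) ((Functor.const _).obj (AddCommGrpCat.of (ULift.{u + 1} ℤ)))).app (op V)

lemma bigZ_hom_ext {S : Scheme.{u}} {F : BigSite.Ab K S} {a b : bigZ K S ⟶ F}
    (h : ∀ V, bigUnit K S V ≫ a.hom.app (op V) = bigUnit K S V ≫ b.hom.app (op V)) : a = b :=
  Sheaf.hom_ext (sheafify_hom_ext _ _ _ F.property (NatTrans.ext (funext fun V => h V.unop)))

lemma bigUnit_map (S : Scheme.{u}) {V W : Over S} (g : W ⟶ V) :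
    bigUnit K S V ≫ (bigZ K S).obj.map g.op = bigUnit K S W :=
  ((toSheafify (QuotSh.J K S) ((Functor.const _).obj (AddCommGrpCat.of (ULift.{u + 1} ℤ)))).naturality g.op).symm.trans
    (Category.id_comp _)

lemma bigUnit_pullConst_inv {S T : Scheme.{u}} (f : T ⟶ S) (V : Over T) :
    bigUnit K T V ≫ (HRes.pullConst K f (AddCommGrpCat.of (ULift.{u + 1} ℤ))).inv.hom.app (op V) =
      bigUnit K S ((Over.map f).obj V) :=
  NatTrans.congr_app ((Over.map f).toSheafify_pullbackSheafificationCompatibility AddCommGrpCat.{u + 1}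
    (QuotSh.J K T) (QuotSh.J K S) ((Functor.const _).obj (AddCommGrpCat.of (ULift.{u + 1} ℤ)))) (op V)

theorem pull_id (S : Scheme.{u}) (F : BigSite.Ab K S) (n : ℕ) (x : BigSite.H K S F n) :
    Sheaf.H.map ((K.toGrothendieck.overMapPullbackId AddCommGrpCat.{u + 1} S).hom.app F) n
      (HRes.pull K (𝟙 S) F n x) = x := by
  let e := (K.toGrothendieck.overMapPullbackId AddCommGrpCat.{u + 1} S).hom
  rw [HRes.pull_apply, Sheaf.H.map_apply, Ext.comp_assoc_of_third_deg_zero,
    mapExactFunctor_natTrans _ _ e x, mapExactFunctor_id]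
  rw [← Ext.comp_assoc _ _ _ (zero_add 0) (zero_add n) (by omega), Ext.mk₀_comp_mk₀]
  have he : (HRes.pullConst K (𝟙 S) (AddCommGrpCat.of (ULift.{u + 1} ℤ))).inv ≫ e.app (bigZ K S) = 𝟙 (bigZ K S) := by
    refine bigZ_hom_ext K fun V => ?_
    refine ((Category.assoc _ _ _).symm.trans (congrArg (· ≫ _) (bigUnit_pullConst_inv K (𝟙 S) V))).trans ?_
    exact (bigUnit_map K S _).trans (Category.comp_id _).symm
  rw [he]
  exact Ext.mk₀_id_comp x

theorem pull_comp {S T T' : Scheme.{u}} (f : T ⟶ S) (g : T' ⟶ T) (F : BigSite.Ab K S) (n : ℕ)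
    (x : BigSite.H K S F n) :
    HRes.pull K (g ≫ f) F n x =
      Sheaf.H.map ((K.toGrothendieck.overMapPullbackComp AddCommGrpCat.{u + 1} g f).hom.app F) n
        (HRes.pull K g ((BigSite.pullBig K f AddCommGrpCat.{u + 1}).obj F) n (HRes.pull K f F n x)) := by
  let e := (K.toGrothendieck.overMapPullbackComp AddCommGrpCat.{u + 1} g f).hom
  let L₁ := BigSite.pullBig K f AddCommGrpCat.{u + 1}
  let L₂ := BigSite.pullBig K g AddCommGrpCat.{u + 1}
  have : PreservesFiniteLimits (L₁ ⋙ L₂) := comp_preservesFiniteLimits _ _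
  have : PreservesFiniteColimits (L₁ ⋙ L₂) := comp_preservesFiniteColimits _ _
  rw [HRes.pull_apply, HRes.pull_apply, HRes.pull_apply, Sheaf.H.map_apply, Ext.mapExactFunctor_comp,
    Ext.mapExactFunctor_mk₀]
  let p₂ : bigZ K T' ⟶ L₂.obj (bigZ K T) := (HRes.pullConst K g (AddCommGrpCat.of (ULift.{u + 1} ℤ))).inv
  let p₁ : bigZ K T ⟶ L₁.obj (bigZ K S) := (HRes.pullConst K f (AddCommGrpCat.of (ULift.{u + 1} ℤ))).inv
  have he : (HRes.pullConst K (g ≫ f) (AddCommGrpCat.of (ULift.{u + 1} ℤ))).inv =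
      (p₂ ≫ L₂.map p₁) ≫ e.app (bigZ K S) := by
    refine bigZ_hom_ext K fun V => ?_
    rw [bigUnit_pullConst_inv]
    refine Eq.symm ?_
    refine (Category.assoc _ _ _).symm.trans ?_
    refine (congrArg (· ≫ _) ((Category.assoc _ _ _).symm.trans
      ((congrArg (· ≫ _) (bigUnit_pullConst_inv K g V)).trans
        (bigUnit_pullConst_inv K f ((Over.map g).obj V))))).trans ?_
    exact bigUnit_map K S _
  rw [he, ← Ext.comp_assoc _ _ _ (zero_add 0) (zero_add n) (by omega), Ext.mk₀_comp_mk₀,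
    Ext.comp_assoc_of_third_deg_zero]
  rw [show (x.mapExactFunctor L₁).mapExactFunctor L₂ = x.mapExactFunctor (L₁ ⋙ L₂) from
    (mapExactFunctor_functorComp L₁ L₂ x).symm, mapExactFunctor_natTrans (L₁ ⋙ L₂) _ e x,
    ← Ext.comp_assoc _ _ _ (zero_add 0) (zero_add n) (by omega), Ext.mk₀_comp_mk₀]

end Groth.Agent.EtMVLib
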