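import Groth.Agent.EtMVLib.OpenSeq
import Groth.Agent.EtMVLib.BiprodSES

/-! Mayer-Vietoris -/

universe u

open CategoryTheory CategoryTheory.Limits AlgebraicGeometry Opposite CategoryTheory.Abelian

namespace Groth.Agent.EtMVLib

set_option backward.isDefEq.respectTransparency.types false

variable {X : Scheme.{u}} (U V : X.Opens)

/-- the Mayer-Vietoris complex `j_{UV!} ℤ → j_{U!} ℤ ⊞ j_{V!} ℤ → ℤ` -/
noncomputable def mvComplex : ShortComplex (EtCoh.Ab X) :=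
  mvSC (shriekZMap U.ι (U ⊓ V).ι (X.homOfLE inf_le_left) (X.homOfLE_ι inf_le_left))
    (shriekZMap V.ι (U ⊓ V).ι (X.homOfLE inf_le_right) (X.homOfLE_ι inf_le_right))
    (shriekZTo U.ι) (shriekZTo V.ι) (r := shriekZTo (U ⊓ V).ι)
    (shriekZMap_comp U.ι (U ⊓ V).ι (X.homOfLE inf_le_left) (X.homOfLE_ι inf_le_left))
    (shriekZMap_comp V.ι (U ⊓ V).ι (X.homOfLE inf_le_right) (X.homOfLE_ι inf_le_right))

theorem isIso_stalk_shriekZTo (O : X.Opens) {Ω : Type u} [Field Ω] [IsSepClosed Ω]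
    (ξ : Spec (CommRingCat.of Ω) ⟶ X) (hξ : ξ.base (default : Spec (CommRingCat.of Ω)) ∈ O) :
    IsIso ((EtCoh.stalk ξ).map (shriekZTo O.ι)) := by
  refine EtFound.isIso_stalk_of_lift O.ι _ ξ (by rw [O.range_ι]; exact hξ) fun k _ _ z => ?_
  have h := EtFound.isIso_counit_stalk O.ι z (EtCoh.const X ℤ)
  have hq : shriekZTo O.ι = (EtShriek.extZero O.ι).map ((EtCore.pullConst O.ι ℤ).inv ≫
      (restrIsoPull O.ι).inv.app (EtCoh.const X ℤ)) ≫
        (EtShriek.extZeroAdj O.ι).counit.app (EtCoh.const X ℤ) := by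
    rw [shriekZTo, shriekAdj, Adjunction.homEquiv_counit, Adjunction.ofNatIsoRight_counit,
      Functor.map_comp]
    simp
  rw [hq, Functor.map_comp]
  exact @IsIso.comp_isIso _ _ _ _ _ _ _ inferInstance h

theorem isZero_stalk_shriekZ (O : X.Opens) {Ω : Type u} [Field Ω] [IsSepClosed Ω]
    (ξ : Spec (CommRingCat.of Ω) ⟶ X) (hξ : ξ.base (default : Spec (CommRingCat.of Ω)) ∉ O) :
    IsZero ((EtCoh.stalk ξ).obj (shriekZ O.ι)) :=
  EtFound.isZero_stalk_extZero O.ι ξ (by rw [O.range_ι]; exact hξ) _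

theorem mvComplex_shortExact (hUV : U ⊔ V = ⊤) : (mvComplex U V).ShortExact := by
  suffices key : ∀ (Ω : Type u) [Field Ω] [IsSepClosed Ω] (ξ : Spec (CommRingCat.of Ω) ⟶ X),
      ((mvComplex U V).map (EtCoh.stalk ξ)).ShortExact by
    refine ShortComplex.ShortExact.mk' ((EtFound.exact_iff_stalks _).2 fun Ω _ _ ξ => (key Ω ξ).exact)
      ((EtFound.mono_iff_stalks _).2 fun Ω _ _ ξ => ?_) ((EtFound.epi_iff_stalks _).2 fun Ω _ _ ξ => ?_)
    · exact (AddCommGrpCat.mono_iff_injective _).1 (key Ω ξ).mono_f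
    · exact (AddCommGrpCat.epi_iff_surjective _).1 (key Ω ξ).epi_g
  intro Ω _ _ ξ
  have : (EtCoh.stalk ξ).Additive := Functor.additive_of_preserves_binary_products _
  by_cases hu : ξ.base (default : Spec (CommRingCat.of Ω)) ∈ U
  · by_cases hv : ξ.base (default : Spec (CommRingCat.of Ω)) ∈ V
    · have := isIso_stalk_shriekZTo U ξ hu
      have := isIso_stalk_shriekZTo V ξ hv
      have := isIso_stalk_shriekZTo (U ⊓ V) ξ ⟨hu, hv⟩
      exact shortExact_map_of_isIso (EtCoh.stalk ξ) _ _ _ _ _ _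
    · exact shortExact_map_of_isZero (EtCoh.stalk ξ) _ _ _ _ _ _
        (isZero_stalk_shriekZ (U ⊓ V) ξ fun h => hv h.2)
        (Or.inl ⟨isIso_stalk_shriekZTo U ξ hu, isZero_stalk_shriekZ V ξ hv⟩)
  · have hor : ξ.base (default : Spec (CommRingCat.of Ω)) ∈ U ∨
        ξ.base (default : Spec (CommRingCat.of Ω)) ∈ V :=
      TopologicalSpace.Opens.mem_sup.1 (by rw [hUV]; trivial)
    exact shortExact_map_of_isZero (EtCoh.stalk ξ) _ _ _ _ _ _
      (isZero_stalk_shriekZ (U ⊓ V) ξ fun h => hu h.1)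
      (Or.inr ⟨isIso_stalk_shriekZTo V ξ (hor.resolve_left hu), isZero_stalk_shriekZ U ξ hu⟩)

end Groth.Agent.EtMVLib
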